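import Cfsg.Agent.Lib.AltModule.P2.M2.C0
import Cfsg.Agent.Lib.AltModule.P2.M2.C1
import Cfsg.Agent.Lib.AltModule.P2.M2.C2
import Cfsg.Agent.Lib.AltModule.P2.M2.C3
import Cfsg.Agent.Lib.AltModule.P2.M2.C4
import Cfsg.Agent.Lib.AltModule.P2.M2.C5
import Cfsg.Agent.Lib.AltModule.P2.M3
import Cfsg.Agent.Lib.AltModule.P2.M4

/-!
Every intertwiner from this module is zero.
-/

namespace Cfsg.Agent.AltMod.P2.M2

theorem final : mdl.finalOk 9 2 7 k6 0x1000000010000000100010000000000010000000100010001000100000001000000000001000000000000000000000000000000000000000000000000000000000000000000000000000000000000000000000000000000000000000000000000000000000000000000000000000000000000000000000000000000000000000000000000000000000000000000000000000000000000000000000000000000000000000000000000000000000000000000000000000000000000000000000000000000000000000000000000000000000000000000000000000000000000000000000000000000000000000000000000000000000000000000000000000000000000000000000000000000000000000000000000000000000000000000000000000000000000000000000000000000000000000000000000000000000000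 = true := by decide +kernel

theorem tree : mdl.treeOk [(0, 0), (0, 1), (0, 2), (1, 0), (1, 1), (1, 2), (2, 0), (2, 2), (3, 0), (4, 1), (4, 2), (4, 3), (5, 1), (5, 2), (5, 3), (6, 1), (6, 2), (8, 0), (10, 2)] = true := by decide +kernel

theorem kills {V : Type*} [AddCommGroup V] [DistribMulAction (Alt 9) V]
    (hV : ∀ v : V, 2 • v = 0) (hbad : Bad 9 V subs) : Kills 9 V mdl := by
  intro φ hφ
  have hM := mdl_ok
  have a0 : mdl.AllKilled 9 2 V φ k0 := Mod.allKilled_nil φ
  have p0 : mdl.AllKilled 9 2 V φ pc0 :=
    Mod.spin_step hV hM hbad hφ (h := subs.getD 16 ([], []))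
      (by decide) fix0_1 fix0_2 spin0 a0
  have a1 : mdl.AllKilled 9 2 V φ k1 := p0
  have p1 : mdl.AllKilled 9 2 V φ pc1 :=
    Mod.spin_step hV hM hbad hφ (h := subs.getD 18 ([], []))
      (by decide) fix1_1 fix1_2 spin1 a1
  have a2 : mdl.AllKilled 9 2 V φ k2 := Mod.allKilled_append a1 p1
  have p2 : mdl.AllKilled 9 2 V φ pc2 :=
    Mod.spin_step hV hM hbad hφ (h := subs.getD 19 ([], []))
      (by decide) fix2_1 fix2_2 spin2 a2
  have a3 : mdl.AllKilled 9 2 V φ k3 := Mod.allKilled_append a2 p2
  have p3 : mdl.AllKilled 9 2 V φ pc3 :=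
    Mod.spin_step hV hM hbad hφ (h := subs.getD 20 ([], []))
      (by decide) fix3_1 fix3_2 spin3 a3
  have a4 : mdl.AllKilled 9 2 V φ k4 := Mod.allKilled_append a3 p3
  have p4 : mdl.AllKilled 9 2 V φ pc4 := by
    refine Mod.factor_step hV hM (M3.kills hV hbad) hφ (C := c4) (fun s hs => ?_) a4 (by decide)
    change s < 6 at hs
    interval_cases s
    · exact fac4_0
    · exact fac4_1
    · exact fac4_2
    · exact fac4_3
    · exact fac4_4
    · exact fac4_5
  have a5 : mdl.AllKilled 9 2 V φ k5 := Mod.allKilled_append a4 p4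
  have p5 : mdl.AllKilled 9 2 V φ pc5 := by
    refine Mod.factor_step hV hM (M4.kills hV hbad) hφ (C := c5) (fun s hs => ?_) a5 (by decide)
    change s < 6 at hs
    interval_cases s
    · exact fac5_0
    · exact fac5_1
    · exact fac5_2
    · exact fac5_3
    · exact fac5_4
    · exact fac5_5
  have a6 : mdl.AllKilled 9 2 V φ k6 := Mod.allKilled_append a5 p5
  exact Mod.final_step hV hM hφ final tree a6

end Cfsg.Agent.AltMod.P2.M2
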