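import Cfsg.Agent.Lib.AltModule.P2.M5.C0
import Cfsg.Agent.Lib.AltModule.P2.M5.C1
import Cfsg.Agent.Lib.AltModule.P2.M5.C2
import Cfsg.Agent.Lib.AltModule.P2.M5.C3
import Cfsg.Agent.Lib.AltModule.P2.M5.C4
import Cfsg.Agent.Lib.AltModule.P2.M5.C5
import Cfsg.Agent.Lib.AltModule.P2.M5.C6
import Cfsg.Agent.Lib.AltModule.P2.M5.C7
import Cfsg.Agent.Lib.AltModule.P2.M2

/-!
Every intertwiner from this module is zero.
-/

namespace Cfsg.Agent.AltMod.P2.M5

theorem final : mdl.finalOk 9 2 6 k8 0x100010000000100010000000100010000000000010001000100000001000100000000000100000000000000000000000000000000000000000000000000000000000000000000000000000000000000000000000000000000000000000000000000000000000000000000000000000000000000000000000000000000000000000000000000000000000000000000000000000000000000000000000000000000000000000000000000000000000000000000000000000000000000000000000000000000000000000000000000000000000000000000000000000000 = true := by decide +kernel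

theorem tree : mdl.treeOk [(0, 0), (0, 1), (0, 2), (1, 0), (1, 1), (1, 2), (2, 0), (2, 1), (2, 2), (3, 0), (4, 3), (5, 3), (6, 3), (7, 3), (8, 3)] = true := by decide +kernel

theorem kills {V : Type*} [AddCommGroup V] [DistribMulAction (Alt 9) V]
    (hV : ∀ v : V, 2 • v = 0) (hbad : Bad 9 V subs) : Kills 9 V mdl := by
  intro φ hφ
  have hM := mdl_ok
  have a0 : mdl.AllKilled 9 2 V φ k0 := Mod.allKilled_nil φ
  have p0 : mdl.AllKilled 9 2 V φ pc0 :=
    Mod.spin_step hV hM hbad hφ (h := subs.getD 8 ([], []))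
      (by decide) fix0_1 fix0_2 spin0 a0
  have a1 : mdl.AllKilled 9 2 V φ k1 := p0
  have p1 : mdl.AllKilled 9 2 V φ pc1 :=
    Mod.spin_step hV hM hbad hφ (h := subs.getD 8 ([], []))
      (by decide) fix1_1 fix1_2 spin1 a1
  have a2 : mdl.AllKilled 9 2 V φ k2 := Mod.allKilled_append a1 p1
  have p2 : mdl.AllKilled 9 2 V φ pc2 :=
    Mod.spin_step hV hM hbad hφ (h := subs.getD 6 ([], []))
      (by decide) fix2_1 fix2_2 spin2 a2
  have a3 : mdl.AllKilled 9 2 V φ k3 := Mod.allKilled_append a2 p2
  have p3 : mdl.AllKilled 9 2 V φ pc3 :=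
    Mod.spin_step hV hM hbad hφ (h := subs.getD 6 ([], []))
      (by decide) fix3_1 fix3_2 spin3 a3
  have a4 : mdl.AllKilled 9 2 V φ k4 := Mod.allKilled_append a3 p3
  have p4 : mdl.AllKilled 9 2 V φ pc4 :=
    Mod.spin_step hV hM hbad hφ (h := subs.getD 7 ([], []))
      (by decide) fix4_1 fix4_2 spin4 a4
  have a5 : mdl.AllKilled 9 2 V φ k5 := Mod.allKilled_append a4 p4
  have p5 : mdl.AllKilled 9 2 V φ pc5 :=
    Mod.spin_step hV hM hbad hφ (h := subs.getD 7 ([], []))
      (by decide) fix5_1 fix5_2 spin5 a5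
  have a6 : mdl.AllKilled 9 2 V φ k6 := Mod.allKilled_append a5 p5
  have p6 : mdl.AllKilled 9 2 V φ pc6 := by
    refine Mod.factor_step hV hM (M2.kills hV hbad) hφ (C := c6) (fun s hs => ?_) a6 (by decide)
    change s < 5 at hs
    interval_cases s
    · exact fac6_0
    · exact fac6_1
    · exact fac6_2
    · exact fac6_3
    · exact fac6_4
  have a7 : mdl.AllKilled 9 2 V φ k7 := Mod.allKilled_append a6 p6
  have p7 : mdl.AllKilled 9 2 V φ pc7 := by
    refine Mod.factor_step hV hM (M2.kills hV hbad) hφ (C := c7) (fun s hs => ?_) a7 (by decide)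
    change s < 5 at hs
    interval_cases s
    · exact fac7_0
    · exact fac7_1
    · exact fac7_2
    · exact fac7_3
    · exact fac7_4
  have a8 : mdl.AllKilled 9 2 V φ k8 := Mod.allKilled_append a7 p7
  exact Mod.final_step hV hM hφ final tree a8

end Cfsg.Agent.AltMod.P2.M5
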